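import Cfsg.Agent.H691.LieAll
import Cfsg.Agent.H600.AltIM
import Cfsg.Agent.H824.ProdLem
import Cfsg.Agent.H704.LowDegree
import Cfsg.Agent.CpAut.Alt

/-!
# S4906: almost simple groups with alternating socle (helper759)

`alt_case` : if all irreducible degrees of an almost simple group `A` with socle `A_m` are degrees of `S_n`, then
`m = n`.
-/

set_option autoImplicit false
set_option linter.unusedSectionVars false

namespace Cfsg.Agent.H759.DS

open Cfsg Cfsg.Agent.H704

universe u

/-- the irreducible degrees of `G` are degrees of `S_n` -/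
def SubDegA (n : ℕ) (G : Type u) [Group G] : Prop :=
  ∀ ψ : G → ℂ, IsIrrCharacter G ψ → ∃ d : ℕ, IsDeg n d ∧ ψ 1 = d

theorem SubDegA.deg {n : ℕ} {G : Type u} [Group G] [Finite G] (h : SubDegA n G) {ψ : G → ℂ}
    (hψ : IsIrrCharacter G ψ) : IsDeg n (charDegree ψ) := by
  obtain ⟨d, hd, h1⟩ := h ψ hψ
  rwa [H672.charDegree_of_eq h1]

theorem SubDegA.of_eq {n : ℕ} {G : Type u} [Group G] [Finite G] (h : SubDegA n G) {ψ : G → ℂ}
    (hψ : IsIrrCharacter G ψ) {d : ℕ} (hd : ψ 1 = (d : ℂ)) : IsDeg n d := by
  have := h.deg hψ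
  rwa [H672.charDegree_of_eq hd] at this

theorem dvd_factorial {n d : ℕ} (h : IsDeg n d) : d ∣ n.factorial := by
  obtain ⟨l, -, h2⟩ := h
  exact ⟨_, h2.symm⟩

theorem sq_le {G : Type u} [Group G] [Finite G] {ψ : G → ℂ} (hψ : IsIrrCharacter G ψ) :
    charDegree ψ ^ 2 ≤ Nat.card G := by
  classical
  have hfin : Finite (IrrCharacter G) := Characters.Core.finite_irr
  have := Fintype.ofFinite (IrrCharacter G)
  have := Fintype.ofFinite G
  have hsq : ∑ χ : IrrCharacter G, charDegree (χ : G → ℂ) ^ 2 = Nat.card G := by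
    have h := Cfsg.Agent.CharDeep.PowerDegrees.sum_sq (G := G)
    have h2 : ∑ χ : IrrCharacter G, (χ : G → ℂ) 1 ^ 2 =
        ((∑ χ : IrrCharacter G, charDegree (χ : G → ℂ) ^ 2 : ℕ) : ℂ) := by
      push_cast
      refine Finset.sum_congr rfl fun χ _ => ?_
      rw [Blocks.Basic.irr_one_eq_charDegree χ.2]
    rw [h2] at h
    exact_mod_cast h
  rw [← hsq]
  exact Finset.single_le_sum (f := fun χ : IrrCharacter G => charDegree (χ : G → ℂ) ^ 2) (fun _ _ => Nat.zero_le _)
    (Finset.mem_univ (⟨ψ, hψ⟩ : IrrCharacter G))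

theorem card_alt' {k : ℕ} (hk : 2 ≤ k) : 2 * Nat.card (alternatingGroup (Fin k)) = k.factorial := by
  have : Nontrivial (Fin k) := Fin.nontrivial_iff_two_le.2 hk
  rw [two_mul_nat_card_alternatingGroup, Nat.card_perm, Nat.card_eq_fintype_card, Fintype.card_fin]

theorem prime_dvd_alt {m r : ℕ} (hm : 5 ≤ m) (hr : r.Prime) (h : r ≤ m) :
    r ∣ Nat.card (alternatingGroup (Fin m)) := by
  have h1 := card_alt' (k := m) (by omega)
  have h2 : r ∣ m.factorial := (Nat.Prime.dvd_factorial hr).2 h
  rcases Nat.lt_or_ge 2 r with h3 | h3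
  · rw [← h1] at h2
    rcases (Nat.Prime.dvd_mul hr).1 h2 with h4 | h4
    · exact absurd (Nat.le_of_dvd (by norm_num) h4) (by omega)
    · exact h4
  · obtain rfl : r = 2 := le_antisymm h3 hr.two_le
    have h4 : 4 ∣ m.factorial := dvd_trans (by decide) (Nat.factorial_dvd_factorial (show 4 ≤ m by omega))
    omega

section

variable {n : ℕ} {A : Type u} [Group A] [Finite A] (S : Subgroup A) [S.Normal] {m : ℕ}

/-- the primes -/
theorem exists_deg (hm : 5 ≤ m) (e : S ≃* alternatingGroup (Fin m)) (hd : SubDegA n A) {r : ℕ} (hr : r.Prime)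
    (h : r ≤ m) : ∃ χ : A → ℂ, IsIrrCharacter A χ ∧ IsDeg n (charDegree χ) ∧ r ∣ charDegree χ := by
  have : Fact r.Prime := ⟨hr⟩
  obtain ⟨χ, hχ⟩ := (H33.IM.of_equiv e (H600.AltDeg.im_alt hm (prime_dvd_alt hm hr h))).of_normal S
  exact ⟨χ, χ.2, hd.deg χ.2, hχ⟩

theorem prime_le (hm : 5 ≤ m) (e : S ≃* alternatingGroup (Fin m)) (hd : SubDegA n A) {r : ℕ} (hr : r.Prime)
    (h : r ≤ m) : r ≤ n := by
  obtain ⟨χ, -, h1, h2⟩ := exists_deg S hm e hd hr h
  exact (Nat.Prime.dvd_factorial hr).1 (h2.trans (dvd_factorial h1))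

theorem lt_two_mul (hm : 5 ≤ m) (e : S ≃* alternatingGroup (Fin m)) (hd : SubDegA n A) : m < 2 * n := by
  obtain ⟨r, hr, h1, h2⟩ := Nat.exists_prime_lt_and_le_two_mul (m / 2) (by omega)
  have := prime_le S hm e hd hr (by omega)
  omega

/-- large degree -/
theorem case_seven (h5 : 5 ≤ n) (hm : 7 ≤ m) (e : S ≃* alternatingGroup (Fin m)) (hd : SubDegA n A) : m = n := by
  obtain ⟨χ, hχ, -, h1⟩ := H464.AltExt.alt_ext S hm e
  have h2 := hd.of_eq hχ h1
  have h3 := lt_two_mul S (by omega) e hd
  rcases Nat.lt_or_ge n 9 with h9 | h9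
  · have p7 := prime_le S (by omega) e hd (r := 7) (by norm_num)
    have p11 := prime_le S (by omega) e hd (r := 11) (by norm_num)
    interval_cases n
    · omega
    · omega
    · have := deg7 h2
      simp only [List.mem_cons, List.not_mem_nil, or_false] at this
      omega
    · have := deg8 h2
      simp only [List.mem_cons, List.not_mem_nil, or_false] at this
      omega
  · rcases low_degree h9 h2 with h | h | h
    · omega
    · omega
    · exfalso
      have : 6 * n ≤ n * (n - 3) := by
        rw [mul_comm]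
        exact Nat.mul_le_mul_left n (by omega)
      omega

end

theorem card_five : Nat.card (alternatingGroup (Fin 5)) = 60 := by
  have := card_alt' (k := 5) (by norm_num)
  have h : Nat.factorial 5 = 120 := by decide
  omega

theorem card_six : Nat.card (alternatingGroup (Fin 6)) = 360 := by
  have := card_alt' (k := 6) (by norm_num)
  have h : Nat.factorial 6 = 720 := by decide
  omega

theorem card_out_six' {S : Type u} [Group S] (e : S ≃* alternatingGroup (Fin 6)) : Nat.card (Cfsg.Out S) = 4 := by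
  rw [H934.OutB.card_out_congr e]
  have h1 := Subgroup.card_mul_index (Inn (alternatingGroup (Fin 6)))
  have hs : IsSimpleGroup (alternatingGroup (Fin 6)) := alternatingGroup.isSimpleGroup (by simp)
  have hinj : Function.Injective (MulAut.conj : alternatingGroup (Fin 6) →* MulAut (alternatingGroup (Fin 6))) := by
    rw [← MonoidHom.ker_eq_bot_iff]
    rcases (MulAut.conj : alternatingGroup (Fin 6) →* MulAut (alternatingGroup (Fin 6))).normal_ker.eq_bot_or_eq_top
      with h | h
    · exact h
    · exfalso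
      apply Cfsg.Agent.CpAut.not_comm_alt (n := 6) (by norm_num)
      refine ⟨⟨fun x y => ?_⟩⟩
      have h1 : MulAut.conj x = 1 := by
        rw [← MonoidHom.mem_ker, h]
        exact Subgroup.mem_top _
      have h2 := DFunLike.congr_fun h1 y
      rw [MulAut.conj_apply, MulAut.one_apply] at h2
      exact mul_inv_eq_iff_eq_mul.1 h2
  have h2 : Nat.card (Inn (alternatingGroup (Fin 6))) = 360 := by
    rw [← card_six]
    exact (Nat.card_congr (MonoidHom.ofInjective hinj).toEquiv).symm
  rw [H824.ProdLem.card_aut_a6, h2] at h1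
  change (Inn (alternatingGroup (Fin 6))).index = 4
  omega

section

variable {n : ℕ} {A : Type u} [Group A] [Finite A] (S : Subgroup A) [S.Normal]

theorem lie_four (e : S ≃* alternatingGroup (Fin 5)) : IsLieTypeChar 2 S := by
  have : Fact (Nat.Prime 2) := ⟨Nat.prime_two⟩
  have : Fintype (GaloisField 2 2) := Fintype.ofFinite _
  have hF : Fintype.card (GaloisField 2 2) = 4 := by
    rw [← Nat.card_eq_fintype_card, GaloisField.card 2 2 (by norm_num)]
    norm_num
  obtain ⟨e'⟩ := S0252.result hF
  exact Or.inl ⟨GaloisField 2 2, inferInstance, inferInstance, inferInstance, 2, le_rfl, fun _ => by omega,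
    ⟨e.trans e'.symm⟩⟩

theorem lie_nine (e : S ≃* alternatingGroup (Fin 6)) : IsLieTypeChar 3 S := by
  have : Fact (Nat.Prime 3) := ⟨Nat.prime_three⟩
  have : Fintype (GaloisField 3 2) := Fintype.ofFinite _
  have hF : Fintype.card (GaloisField 3 2) = 9 := by
    rw [← Nat.card_eq_fintype_card, GaloisField.card 3 2 (by norm_num)]
    norm_num
  obtain ⟨e'⟩ := S0254.result hF
  exact Or.inl ⟨GaloisField 3 2, inferInstance, inferInstance, inferInstance, 2, le_rfl, fun _ => by omega,
    ⟨e.trans e'.symm⟩⟩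

theorem deg_lie [IsSimpleGroup S] (hd : SubDegA n A) {p : ℕ} (hp : p.Prime) (h : IsLieTypeChar p S) {a : ℕ}
    (ha : (Nat.card S).factorization p = a) : IsDeg n (p ^ a) := by
  have := Fact.mk hp
  obtain ⟨χ, hχ, -, h1⟩ := H691.StExt.exists_ext S (H996.AllSplit.hasSplit_of_lie hp h)
  obtain ⟨Q⟩ := (inferInstance : Nonempty (Sylow p S))
  have h2 := hd.of_eq hχ (h1 Q)
  rwa [Q.card_eq_multiplicity, ha] at h2

theorem fact_sixty : (60 : ℕ).factorization 2 = 2 := by
  rw [show (60 : ℕ) = 2 ^ 2 * 15 by norm_num, Nat.factorization_mul (by norm_num) (by norm_num),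
    Nat.Prime.factorization_pow Nat.prime_two]
  simp [Nat.factorization_eq_zero_of_not_dvd]

theorem fact_three : (360 : ℕ).factorization 3 = 2 := by
  rw [show (360 : ℕ) = 3 ^ 2 * 40 by norm_num, Nat.factorization_mul (by norm_num) (by norm_num),
    Nat.Prime.factorization_pow Nat.prime_three]
  simp [Nat.factorization_eq_zero_of_not_dvd]

theorem case_five [IsSimpleGroup S] (h5 : 5 ≤ n) (e : S ≃* alternatingGroup (Fin 5)) (hd : SubDegA n A) : 5 = n := by
  have h4 : IsDeg n (2 ^ 2) := deg_lie S hd Nat.prime_two (lie_four S e) (by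
    rw [Nat.card_congr e.toEquiv, card_five, fact_sixty])
  rcases Nat.lt_or_ge n 9 with h9 | h9
  · interval_cases n
    · rfl
    · have := deg6 h4
      simp at this
    · have := deg7 h4
      simp at this
    · have := deg8 h4
      simp at this
  · rcases low_degree h9 h4 with h | h | h
    · omega
    · omega
    · exfalso
      have : 6 * n ≤ n * (n - 3) := by
        rw [mul_comm]
        exact Nat.mul_le_mul_left n (by omega)
      omega

theorem case_six [IsSimpleGroup S] (h5 : 5 ≤ n) (e : S ≃* alternatingGroup (Fin 6)) (hd : SubDegA n A)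
    (hind : S.index ∣ Nat.card (Cfsg.Out S)) : 6 = n := by
  have h4 : IsDeg n (3 ^ 2) := deg_lie S hd Nat.prime_three (lie_nine S e) (by
    rw [Nat.card_congr e.toEquiv, card_six, fact_three])
  rcases Nat.lt_or_ge n 9 with h9 | h9
  · interval_cases n
    · have := deg5 h4
      simp at this
    · rfl
    · have := deg7 h4
      simp at this
    · have := deg8 h4
      simp at this
  · have h10 : n = 10 := by
      rcases low_degree h9 h4 with h | h | h
      · omega
      · omega
      · exfalso
        have : 6 * n ≤ n * (n - 3) := by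
          rw [mul_comm]
          exact Nat.mul_le_mul_left n (by omega)
        omega
    subst h10
    exfalso
    obtain ⟨χ, hχ, h6, h7⟩ := exists_deg S (by norm_num) e hd (r := 5) (by norm_num) (by norm_num)
    have hA : Nat.card A ∣ 1440 := by
      rw [← S.card_mul_index, Nat.card_congr e.toEquiv, card_six]
      rw [card_out_six' e] at hind
      exact (Nat.mul_dvd_mul_left 360 hind)
    have h8 := sq_le hχ
    have h9 : charDegree χ ∣ 1440 := (Blocks.Knorr.charDegree_dvd hχ).trans hA
    have h10 := Nat.le_of_dvd (by norm_num) hA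
    rcases low_degree (by norm_num) h6 with h | h | h
    · omega
    · omega
    · have h11 : charDegree χ ≤ 37 := by nlinarith
      have h12 : charDegree χ = 35 := by omega
      rw [h12] at h9
      omega

/-- **The alternating groups.** The hypothesis `hd` is `SubDeg n A`. -/
theorem alt_case {n : ℕ} (h5 : 5 ≤ n) {A : Type u} [Group A] [Finite A] (S : Subgroup A) [S.Normal] [IsSimpleGroup S]
    {m : ℕ} (hm : 5 ≤ m) (e : S ≃* alternatingGroup (Fin m)) (hind : S.index ∣ Nat.card (Cfsg.Out S))
    (hd : ∀ ψ : A → ℂ, IsIrrCharacter A ψ → ∃ d : ℕ, IsDeg n d ∧ ψ 1 = d) : m = n := by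
  rcases Nat.lt_or_ge m 7 with h7 | h7
  · have : m = 5 ∨ m = 6 := by omega
    rcases this with rfl | rfl
    · exact case_five S h5 e hd
    · exact case_six S h5 e hd hind
  · exact case_seven S h5 h7 e hd

end

end Cfsg.Agent.H759.DS
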